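import Mathlib
import Cfsg.Agent.OddHalf.NI3.FrameDef
import Cfsg.Agent.OddHalf.NI.CoverFrame
import Cfsg.Agent.OddHalf.NI.OmegaSheet

/-!
# Frames over any field of odd order (NI over `F_3`, (T'_3); helper448)

* `FrameF F N z` : frames with members `SL(2, F)`, no condition on `|F|`; `FrameF.three_of` : `|F| = 3` gives
  `Frame3 N z`; `FrameF.big` : `3 < |F|` gives `NI.Frame N z`;
* `frame_of_cls`, `frame_of_mem`, `frame_of_cover` : as in `NI/ClsFrame.lean`, `NI/CoverFrame.lean`;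
* `frame_ker`, `frame_center`, `frame_POmega` : as in `NI/OmegaSheet.lean`.
-/

set_option autoImplicit false
set_option linter.unusedSectionVars false
set_option linter.dupNamespace false
set_option linter.style.haveILetI false

namespace Cfsg.Agent.OddHalf.NI3.T.Cover3

open CoxeterSystem Cfsg.Agent.ChevalleyStructure.CoxeterGeom Cfsg.Agent.Tits.Roots Cfsg.Agent.Tits.Core
  Cfsg.Agent.Tits.RootComb Cfsg.Agent.Nodes.Comb Cfsg.Agent.Nodes.Reps Cfsg.Agent.Nodes.BNOf
  Cfsg.Agent.Nodes.RGDLib Cfsg.Agent.Nodes.Chart Cfsg.Agent.Nodes.RGDLift Cfsg.Agent.Nodes.Coroot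
  Cfsg.Agent.Nodes.Perp Cfsg.Agent.Nodes.ZRel Cfsg.Agent.Nodes.Bruhat
open Cfsg.Agent.OddHalf.NI Cfsg.Agent.OddHalf.NI.FrameMin Cfsg.Agent.OddHalf.NI.ClsFrame
open Matrix (SpecialLinearGroup)

/-- A frame of `N` for the involution `z`, with members `SL(2, F)`. -/
structure FrameF (F : Type) [Field F] (N : Type*) [Group N] (z : N) where
  /-- number of members -/
  m : ℕ
  pos : 0 < m
  J : Fin m → Subgroup N
  y : Fin m → N
  iso : ∀ i, Nonempty (↥(J i) ≃* SpecialLinearGroup (Fin 2) F)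
  mem : ∀ i, y i ∈ J i
  ord : ∀ i, orderOf (y i) = 2
  le : ∀ i, J i ≤ Subgroup.centralizer {y i}
  sub : ∀ i, ((J i).subgroupOf (Subgroup.centralizer {y i})).IsSubnormal
  comm : ∀ i j, i ≠ j → ∀ a ∈ J i, ∀ b ∈ J j, a * b = b * a
  inj : Function.Injective y
  three : ∀ a b c, a ≠ b → a ≠ c → b ≠ c → y a * y b ≠ y c
  gen : z ∈ Subgroup.closure (Set.range y)

/-- `SL(2, F)` for `|F| = 3` -/
theorem sl_three {F : Type} [Field F] [Fintype F] (hF : Fintype.card F = 3) :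
    Nonempty (SpecialLinearGroup (Fin 2) F ≃* SpecialLinearGroup (Fin 2) (ZMod 3)) := by
  have h3 : Nat.Prime 3 := Nat.prime_three
  have e : ZMod 3 ≃+* F := ZMod.ringEquivOfPrime F h3 hF
  refine ⟨{ toFun := Matrix.SpecialLinearGroup.map e.symm.toRingHom
            invFun := Matrix.SpecialLinearGroup.map e.toRingHom
            left_inv := fun g => ?_, right_inv := fun g => ?_
            map_mul' := map_mul _ }⟩
  · ext i j
    simp [Matrix.SpecialLinearGroup.map_apply_coe]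
  · ext i j
    simp [Matrix.SpecialLinearGroup.map_apply_coe]

theorem FrameF.three_of {F : Type} [Field F] [Fintype F] (hF : Fintype.card F = 3) {N : Type*} [Group N] {z : N}
    (f : FrameF F N z) : Nonempty (Frame3 N z) := by
  obtain ⟨e⟩ := sl_three hF
  exact ⟨{ m := f.m, pos := f.pos, J := f.J, y := f.y, iso := fun i => ⟨(f.iso i).some.trans e⟩, mem := f.mem,
           ord := f.ord, le := f.le, sub := f.sub, comm := f.comm, inj := f.inj, three := f.three, gen := f.gen }⟩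

theorem FrameF.big {F : Type} [Field F] [Fintype F] (ho : Odd (Fintype.card F)) (hc : 3 < Fintype.card F)
    {N : Type*} [Group N] {z : N} (f : FrameF F N z) : Nonempty (NI.Frame N z) :=
  ⟨{ m := f.m, pos := f.pos, J := f.J, y := f.y, F := F, odd := ho, card := hc, iso := f.iso, mem := f.mem,
     ord := f.ord, le := f.le, sub := f.sub, comm := f.comm, inj := f.inj, three := f.three, gen := f.gen }⟩

section ClsF

variable {I W Y : Type*} [Fintype I] [DecidableEq I] [Group W] [Fintype W] [Group Y] {M : CoxeterMatrix I}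
  {cs : CoxeterSystem M W} {A : I → I → ℤ} {h : IsCartan M A} {p : ℕ} {T : Subgroup Y} {n : I → Y}
  {X : (I → ℤ) → Subgroup Y} {R : Set (I → ℤ)} {Z : (I → ℤ) → Subgroup Y} {z : (I → ℤ) → Y}

variable (C : Cls cs h p T n X R Z z) (tr : ∀ r ∈ R, ∀ s ∈ R, ∃ w, s = rep cs h w r)

include C tr

/-- **The frame of a `Cls`**: any nontrivial element of `⟨z r : r ∈ R⟩` lies in a frame. -/
theorem frame_of_cls (hp : p.Prime) (hp2 : p ≠ 2) (hG : G1 cs h X = ⊤) {F : Type} [Field F] [Fintype F]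
    (ho : Odd (Fintype.card F))
    (sl : ∀ r ∈ R, Nonempty (Matrix.SpecialLinearGroup (Fin 2) F ≃* ↥(Z r ⊔ Z (-r))))
    {z₀ : Y} (h0 : z₀ ∈ Subgroup.closure (z '' R)) (h1 : z₀ ≠ 1) : Nonempty (FrameF F Y z₀) := by
  classical
  have hG' : GG cs h T X = ⊤ := by
    rw [eq_top_iff, ← hG]
    exact le_sup_right
  obtain ⟨r₀, hr₀, hz₀⟩ := ClsFrame.exists_z_ne h0 h1
  have hz1 : ∀ r ∈ R, z r ≠ 1 := fun r hr => z_ne C tr hr₀ hz₀ hr
  obtain ⟨S, hne, hSR, horth, hind, -, hgen⟩ := exists_family C hp hp2 (uniq C ho sl hz1) (len C tr) h0 h1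
  let e : Fin S.card ≃ S := S.equivFin.symm
  have hR : ∀ i, (e i : I → ℤ) ∈ R := fun i => hSR _ (e i).2
  have hdist : ∀ r ∈ S, ∀ s ∈ S, r ≠ s → z r ≠ z s := by
    intro r hr s hs hrs h2
    apply hind r hr
    rw [h2]
    exact Subgroup.subset_closure ⟨s, ⟨hs, fun h3 => hrs (Set.mem_singleton_iff.1 h3).symm⟩, rfl⟩
  have hthree : ∀ r ∈ S, ∀ s ∈ S, ∀ t ∈ S, r ≠ t → s ≠ t → z r * z s ≠ z t := by
    intro r hr s hs t ht hrt hst h2
    apply hind t ht
    rw [← h2]
    exact mul_mem (Subgroup.subset_closure ⟨r, ⟨hr, fun h3 => hrt (Set.mem_singleton_iff.1 h3)⟩, rfl⟩)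
      (Subgroup.subset_closure ⟨s, ⟨hs, fun h3 => hst (Set.mem_singleton_iff.1 h3)⟩, rfl⟩)
  have hval : ∀ i j, i ≠ j → (e i : I → ℤ) ≠ e j := fun i j hij h2 => hij (e.injective (Subtype.ext h2))
  refine ⟨{ m := S.card, pos := hne.card_pos, J := fun i => Z (e i) ⊔ Z (-(e i : I → ℤ)),
            y := fun i => z (e i), iso := ?_, mem := ?_, ord := ?_, le := ?_,
            sub := ?_, comm := ?_, inj := ?_, three := ?_, gen := ?_ }⟩
  · intro i
    obtain ⟨φ⟩ := sl _ (hR i)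
    exact ⟨φ.symm⟩
  · exact fun i => C.z_mem _ (hR i)
  · intro i
    refine orderOf_eq_prime ?_ (hz1 _ (hR i))
    rw [pow_two]; exact C.z_sq _ (hR i)
  · exact fun i => ClsFrame.le_centralizer C (hR i)
  · exact fun i => subnormal C (hp.odd_of_ne_two hp2) hG' (hR i)
  · intro i j hij
    exact (cm_iff C hp hp2 (hR i) (hR j)).2 (horth _ (e i).2 _ (e j).2 (hval i j hij))
  · intro i j hij
    by_contra h2
    exact hdist _ (e i).2 _ (e j).2 (hval i j h2) hij
  · intro i j k _ hik hjk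
    exact hthree _ (e i).2 _ (e j).2 _ (e k).2 (hval i k hik) (hval j k hjk)
  · refine Subgroup.closure_mono ?_ hgen
    rintro _ ⟨r, hr, rfl⟩
    exact ⟨e.symm ⟨r, hr⟩, by simp⟩

end ClsF

section Main

variable {I W L M N : Type*} [Fintype I] [DecidableEq I] [Group W] [Fintype W] [Group L] [Group M] [Finite M]
  [Group N] {Mx : CoxeterMatrix I}
  {cs : CoxeterSystem Mx W} {A : I → I → ℤ} {h : IsCartan Mx A} {p : ℕ} {T : Subgroup L} {n : I → L}
  {X : (I → ℤ) → Subgroup L} {R : Set (I → ℤ)} {Z : (I → ℤ) → Subgroup L} {z : (I → ℤ) → L}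

variable (C : Cls cs h p T n X R Z z) (tr : ∀ r ∈ R, ∀ s ∈ R, ∃ w, s = rep cs h w r)
  (hp : p.Prime) (hp2 : p ≠ 2)
  {F : Type} [Field F] [Fintype F] (ho : Odd (Fintype.card F))
  (sl : ∀ r ∈ R, Nonempty (SpecialLinearGroup (Fin 2) F ≃* ↥(Z r ⊔ Z (-r))))
  {α : M →* L} (hα : Function.Surjective α) (hαc : α.ker ≤ Subgroup.center M) (hα2 : IsPGroup 2 α.ker)
  (hM : G1 cs h (fun x => lft p α (X x)) = ⊤)
  {φ : M →* N} (hφ : Function.Surjective φ) (hφc : φ.ker ≤ Subgroup.center M)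

include C tr hp hp2 ho sl hα hαc hα2 hM hφ hφc

/-- **Frames in covers, first form.** There are lifts `z_M r` with `z_M r ∈ ⟨Z̃ r, Z̃ (-r)⟩` such that `N` has a frame for
every nontrivial `φ m`, `m ∈ ⟨z_M r : r ∈ R⟩`. -/
theorem frame_of_mem {nM : I → M} (hn : ∀ i, α (nM i) = n i) :
    ∃ zM : (I → ℤ) → M, Cls cs h p (T.comap α) nM (fun x => lft p α (X x)) R (fun x => lft p α (Z x)) zM ∧
      (∀ r ∈ R, α (zM r) = z r) ∧
      ∀ m ∈ Subgroup.closure (zM '' R), φ m ≠ 1 → Nonempty (FrameF F N (φ m)) := by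
  haveI : Fact p.Prime := ⟨hp⟩
  have hF : (2 : F) ≠ 0 := LongSL.two_ne_of_odd ho
  have hk := CoverFrame.coprime_ker hα2 hp hp2
  have hinj : ∀ r ∈ R, ∀ y ∈ lft p α (Z r) ⊔ lft p α (Z (-r)), α y = 1 → y = 1 := by
    intro r hr y hy h1
    obtain ⟨e⟩ := sl r hr
    exact CoverFrame.inj_lift hp2 hαc hα2 (Nodes.ClsMap.isPGroup_Z C hr)
      (Nodes.ClsMap.isPGroup_Z C (Nodes.ClsMap.neg_mem C hr)) hF e hy h1
  obtain ⟨zM, CM, hzM⟩ := Nodes.ClsLift.cls_lift hαc hk hα C hn hinj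
  refine ⟨zM, CM, hzM, ?_⟩
  intro m hm hm1
  -- the members of `M`
  have slM : ∀ r ∈ R, Nonempty (SpecialLinearGroup (Fin 2) F ≃* ↥(lft p α (Z r) ⊔ lft p α (Z (-r)))) := by
    intro r hr
    obtain ⟨e⟩ := sl r hr
    have hZr := Nodes.ClsMap.isPGroup_Z C hr
    have hZr' := Nodes.ClsMap.isPGroup_Z C (Nodes.ClsMap.neg_mem C hr)
    have hmap : (lft p α (Z r) ⊔ lft p α (Z (-r))).map α = Z r ⊔ Z (-r) := by
      rw [Subgroup.map_sup, map_lft hαc hk hα hZr, map_lft hαc hk hα hZr']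
    let g : ↥(lft p α (Z r) ⊔ lft p α (Z (-r))) →* L := α.comp (Subgroup.subtype _)
    have hg : Function.Injective g := by
      rw [injective_iff_map_eq_one]
      intro y hy
      exact Subtype.ext (hinj r hr y.1 y.2 hy)
    have hr' : g.range = Z r ⊔ Z (-r) := by
      rw [MonoidHom.range_comp, Subgroup.range_subtype, hmap]
    exact ⟨(e.trans (MulEquiv.subgroupCongr hr'.symm)).trans (MonoidHom.ofInjective hg).symm⟩
  -- the image in `N`
  have CN := Nodes.ClsMap.cls_map_of_ker_le_center CM φ hφc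
  have hGN : G1 cs h (fun x => (lft p α (X x)).map φ) = ⊤ := by
    rw [← CoverFrame.G1_map, hM, Subgroup.map_top_of_surjective φ hφ]
  have hz0 : φ m ∈ Subgroup.closure ((fun x => φ (zM x)) '' R) := by
    have h1 := Subgroup.mem_map_of_mem φ hm
    rw [MonoidHom.map_closure, ← Set.image_comp] at h1
    exact h1
  obtain ⟨r₀, hr₀, hz₀⟩ := ClsFrame.exists_z_ne hz0 hm1
  have hz1 : ∀ r ∈ R, φ (zM r) ≠ 1 := fun r hr => ClsFrame.z_ne CN tr hr₀ hz₀ hr
  refine frame_of_cls CN tr hp hp2 hGN ho ?_ hz0 hm1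
  intro r hr
  obtain ⟨e⟩ := slM r hr
  let g : SpecialLinearGroup (Fin 2) F →* N := (φ.comp (Subgroup.subtype _)).comp e.toMonoidHom
  have hg1 : ∀ s, g s = φ ((e s : ↥(lft p α (Z r) ⊔ lft p α (Z (-r)))) : M) := fun _ => rfl
  have hg : Function.Injective g := by
    rw [injective_iff_map_eq_one]
    intro s hs
    -- `s` is central, hence `± 1`
    have h1 : ((e s : ↥(lft p α (Z r) ⊔ lft p α (Z (-r)))) : M) ∈ Subgroup.center M := hφc hs
    have h2 : s ∈ Subgroup.center (SpecialLinearGroup (Fin 2) F) := by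
      rw [Subgroup.mem_center_iff]
      intro t
      apply e.injective
      apply Subtype.ext
      rw [map_mul, map_mul]
      exact Subgroup.mem_center_iff.1 h1 _
    have h3 : s = 1 ∨ s = -1 := CovTwo.mem_center_sl ho h2
    rcases h3 with h3 | h3
    · exact h3
    · exfalso
      have h4 : (e s : ↥(lft p α (Z r) ⊔ lft p α (Z (-r)))) = ⟨zM r, CM.z_mem r hr⟩ := by
        have h5 : zM r ≠ 1 := fun h6 => hz1 r hr (by rw [h6, map_one])
        have h6 := Lib.PSL2Inv.sq_eq_one hF (x := e.symm ⟨zM r, CM.z_mem r hr⟩) (by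
          rw [← map_mul]
          have : (⟨zM r, CM.z_mem r hr⟩ * ⟨zM r, CM.z_mem r hr⟩ : ↥(lft p α (Z r) ⊔ lft p α (Z (-r)))) = 1 :=
            Subtype.ext (CM.z_sq r hr)
          rw [this, map_one])
        rcases h6 with h6 | h6
        · exfalso
          apply h5
          have h7 : (⟨zM r, CM.z_mem r hr⟩ : ↥(lft p α (Z r) ⊔ lft p α (Z (-r)))) = 1 := by
            rw [← e.apply_symm_apply ⟨zM r, CM.z_mem r hr⟩, h6, map_one]
          exact congrArg Subtype.val h7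
        · rw [h3, ← h6, e.apply_symm_apply]
      apply hz1 r hr
      rw [hg1, h4] at hs
      exact hs
  have hr' : g.range = (lft p α (Z r)).map φ ⊔ (lft p α (Z (-r))).map φ := by
    rw [← Subgroup.map_sup, MonoidHom.range_comp, MonoidHom.range_eq_top.2 e.surjective]
    rw [← MonoidHom.range_eq_map, MonoidHom.range_comp, Subgroup.range_subtype]
  exact ⟨(MonoidHom.ofInjective hg).trans (MulEquiv.subgroupCongr hr')⟩

/-- **Frames in covers, second form**: `z₀ = φ (Th t)`, `t ^ 2 = 1`, for a torus parametrisation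
`Th : ∏ Fᵢ^× →* M` with `Th (mulSingle i (-1)) = s' i (-1)`, `s' i : SL(2, Fᵢ) →* M`. -/
theorem frame_of_cover {Fi : I → Type} [∀ i, Field (Fi i)] (s' : ∀ i, SpecialLinearGroup (Fin 2) (Fi i) →* M)
    (Th : (∀ i, (Fi i)ˣ) →* M) (hTh : ∀ i, Th (Pi.mulSingle i (-1)) = s' i (-1))
    (hup : ∀ i, s' i (InvClosure.u1 (Fi i)) ∈ lft p α (X (sr i)))
    (hlo : ∀ i, s' i (InvClosure.l1 (Fi i)) ∈ lft p α (X (-sr i)))
    (hw : ∀ i, ∃ t ∈ T, α (s' i (InvClosure.w1 (Fi i))) = t * n i)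
    (lnk : ∀ i, ∃ r ∈ R, r ≠ sr i ∧ r ≠ -sr i ∧ form cs h (sr i) r ≠ 0)
    {t : ∀ i, (Fi i)ˣ} (ht : t ^ 2 = 1) (h1 : φ (Th t) ≠ 1) : Nonempty (FrameF F N (φ (Th t))) := by
  have hn : ∃ nM : I → M, ∀ i, α (nM i) = n i := ⟨fun i => (hα (n i)).choose, fun i => (hα (n i)).choose_spec⟩
  obtain ⟨nM, hn⟩ := hn
  obtain ⟨zM, CM, -, hfr⟩ := frame_of_mem C tr hp hp2 ho sl hα hαc hα2 hM hφ hφc hn
  refine hfr _ ?_ h1
  refine InvClosure.pm_mem Th (fun i => ?_) ht
  rw [hTh]
  refine InvClosure.neg_one_mem CM (s' i) (hup i) (hlo i) ?_ (lnk i)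
  obtain ⟨t, ht, e⟩ := hw i
  refine ⟨s' i (InvClosure.w1 (Fi i)) * (nM i)⁻¹, ?_, by group⟩
  rw [Subgroup.mem_comap, map_mul, map_inv, e, hn, mul_inv_cancel_right]
  exact ht

end Main

/-! ### Sheets -/

section Cover

variable {L : Type*} [Group L] {p : ℕ} {F : Type} [Field F] [Fintype F] (S : OmegaSheet.Sheet L p F)
  (hp : p.Prime) (hp2 : p ≠ 2) (ho : Odd (Fintype.card F))
  {M N : Type*} [Group M] [Finite M] [Group N] {α : M →* L} (hα : Function.Surjective α)
  (hαc : α.ker ≤ Subgroup.center M) (hα2 : IsPGroup 2 α.ker) (hM : commutator M = ⊤)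
  {φ : M →* N} (hφ : Function.Surjective φ) (hφc : φ.ker ≤ Subgroup.center M)

include S

include hp hp2 ho hα hαc hα2 hM hφ hφc

/-- the common part: `m` over the torus, all solutions of square one -/
theorem frame_of_T {m : M} (hm : α m ∈ S.T) (hk : ∀ t, S.θ t = α m → t ^ 2 = 1) (h1 : φ m ≠ 1) :
    Nonempty (FrameF F N (φ m)) := by
  have : Fact p.Prime := ⟨hp⟩
  obtain ⟨s', θ', e1, e2, e3, e4, e5, e6, -⟩ := Mult.mult hp2 S.cls.rgd S.gen S.coord S.θ S.hθ hα hαc hα2 hM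
  have hm' : m ∈ θ'.range := by
    rw [e4]
    exact hm
  obtain ⟨t, rfl⟩ := hm'
  have ht : t ^ 2 = 1 := hk t (by rw [← e3]; rfl)
  refine frame_of_cover S.cls S.tr hp hp2 ho S.sl hα hαc hα2 e6 hφ hφc s' θ' ?_ ?_ ?_ ?_ S.lnk ht h1
  · intro i
    rw [e2, Mult.dg_neg_one]
  · intro i
    exact e5.mem_up i 1
  · intro i
    exact e5.mem_lo i (-1)
  · intro i
    have h2 : α (s' i (InvClosure.w1 (S.Fi i))) = S.s i (Mult.nn 1) := by
      rw [← e1 i, MonoidHom.comp_apply]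
      congr 2
    have h3 := (Mult.rp_nn S.cls.rgd S.coord i 1).mul (rp_simple S.cs S.cls.rgd.nsys i).inv
    rw [mul_inv_cancel] at h3
    exact ⟨_, h3.mem_of_one, by rw [h2]; group⟩

/-- `m` in the kernel of `M → L` -/
theorem frame_ker {m : M} (hm : α m = 1) (h1 : φ m ≠ 1) : Nonempty (FrameF F N (φ m)) :=
  frame_of_T S hp hp2 ho hα hαc hα2 hM hφ hφc (by rw [hm]; exact one_mem _)
    (fun t ht => S.k1 t (by rw [ht, hm])) h1

/-- `m` in the centre of `M` -/
theorem frame_center (k2 : ∀ t, S.θ t ∈ Subgroup.center L → t ^ 2 = 1) {m : M}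
    (hm : m ∈ Subgroup.center M) (h1 : φ m ≠ 1) : Nonempty (FrameF F N (φ m)) := by
  have h2 : α m ∈ Subgroup.center L := by
    rw [Subgroup.mem_center_iff]
    intro y
    obtain ⟨x, rfl⟩ := hα y
    rw [← map_mul, ← map_mul, Subgroup.mem_center_iff.1 hm x]
  exact frame_of_T S hp hp2 ho hα hαc hα2 hM hφ hφc (OmegaSheet.center_le_T S h2)
    (fun t ht => k2 t (by rw [ht]; exact h2)) h1

end Cover

/-! ### The assembly for `PΩ(V)` -/

section POmega

open QuadraticMap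
open Cfsg.Agent.LieClassical Cfsg.Agent.LieClassical.OrthCore Cfsg.Agent.LieClassical.OrthTrans
  Cfsg.Agent.TitsThree.KSideO

variable {ι : Type} [Fintype ι] [DecidableEq ι] {F : Type} [Field F] [Fintype F] {Q : QuadraticForm F (ι → F)}

/-- **(T') for `PΩ(V)`.** -/
theorem frame_POmega (hG : Good Q) {p : ℕ} (hp : p.Prime) (hp2 : p ≠ 2) (h2 : (2 : F) ≠ 0)
    (ho : Odd (Fintype.card F)) (S : OmegaSheet.Sheet ↥(E Q) p F)
    (k2 : Fintype.card ι % 4 ≠ 2 → ∀ t, S.θ t ∈ Subgroup.center ↥(E Q) → t ^ 2 = 1)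
    {N : Type*} [Group N] [Finite N] (hN : commutator N = ⊤) (hZ : IsPGroup 2 ↥(Subgroup.center N))
    (e : N ⧸ Subgroup.center N ≃* Cfsg.POmega F ⇑Q) {z : N} (hz : z ∈ Subgroup.center N) (h8 : Even8 z) :
    Nonempty (FrameF F N z) := by
  have hz1 : z ≠ 1 := by
    rintro rfl
    have := h8.1
    rw [orderOf_one] at this
    omega
  -- the two maps to `PΩ`
  obtain ⟨f, hf⟩ : ∃ f : N →* Cfsg.POmega F ⇑Q, f = e.toMonoidHom.comp (QuotientGroup.mk' _) := ⟨_, rfl⟩
  have fs : Function.Surjective f := by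
    rw [hf]
    exact e.surjective.comp (QuotientGroup.mk'_surjective _)
  have fk : f.ker = Subgroup.center N := by
    rw [hf]
    ext x
    rw [MonoidHom.mem_ker]
    change e (QuotientGroup.mk x) = 1 ↔ _
    rw [map_eq_one_iff e e.injective, QuotientGroup.eq_one_iff]
  have gs := toPOmega_surjective hG
  have gk : (toPOmega hG).ker ≤ Subgroup.center ↥(E Q) := fun x hx => center_of_toPOmega hG hx
  have hE : commutator ↥(E Q) = ⊤ := by
    apply Subgroup.map_injective (E Q).subtype_injective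
    rw [commutator_def, Subgroup.map_commutator, ← MonoidHom.range_eq_map, Subgroup.range_subtype]
    exact hG.E_perfect
  have hfin : Finite ((ι → F) ≃ₗ[F] (ι → F)) :=
    Finite.of_injective (fun g : (ι → F) ≃ₗ[F] (ι → F) => (g : (ι → F) → (ι → F))) DFunLike.coe_injective
  have hM := Fibre.perfect (f := f) (g := toPOmega hG) fs gs fk.le gk hN
  have hφ := Fibre.toN_surjective (f := f) (g := toPOmega hG) gs hN
  have hα := Fibre.toL_surjective (f := f) (g := toPOmega hG) fs hE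
  have hφc := Fibre.ker_toN (f := f) (g := toPOmega hG) fk.le gk
  have hαc := Fibre.ker_toL (f := f) (g := toPOmega hG) fk.le gk
  have hk2 : IsPGroup 2 (Fibre.toX f (toPOmega hG)).ker := Fibre.isPGroup_ker (by rw [fk]; exact hZ) (OmegaSheet.ker_two hG)
  have hα2 : IsPGroup 2 (Fibre.toL f (toPOmega hG)).ker := by
    refine hk2.to_le fun m hm => ?_
    rw [MonoidHom.mem_ker]
    change f (Fibre.toN f (toPOmega hG) m) = 1
    rw [Fibre.comm, MonoidHom.mem_ker.1 hm, map_one]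
  by_cases h4 : Fintype.card ι % 4 = 2
  · -- `D_odd`
    have hmem := OmegaEnd.mem_map_ker (F := F) h2 Q ?_ ?_ ?_ ?_ (Fibre.toN f (toPOmega hG)) hφ hφc hM
      ((toOmega hG).toMonoidHom.comp (Fibre.toL f (toPOmega hG))) ((toOmega hG).surjective.comp hα) hz h8
    · obtain ⟨m, hm, rfl⟩ := hmem
      refine frame_ker S hp hp2 ho hα hαc hα2 hM hφ hφc ?_ hz1
      have h3 : toOmega hG (Fibre.toL f (toPOmega hG) m) = 1 := hm
      rwa [map_eq_one_iff _ (toOmega hG).injective] at h3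
    · exact LieClassical.OmegaReindex.nondegenerate_of_left _ (fun x hx => hG.nondeg x fun y => hx y)
    · have := hG.dim
      rw [Module.finrank_fintype_fun_eq_card] at this
      omega
    · exact hG.sing
    · omega
  · -- otherwise
    obtain ⟨m, hm⟩ := hφ z
    have hmc : m ∈ Subgroup.center (Fibre.M f (toPOmega hG)) := by
      refine Fibre.mem_center_of_map fk.le gk ?_
      rw [hm]
      exact MonoidHom.mem_ker.1 (fk.ge hz)
    rw [← hm] at hz1 ⊢
    exact frame_center S hp hp2 ho hα hαc hα2 hM hφ hφc (k2 h4) hmc hz1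

end POmega

end Cfsg.Agent.OddHalf.NI3.T.Cover3
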